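import Mathlib
import Cfsg.Agent.Spor.Comp.Model

/-! Generated by tools/pg: partial coset enumeration m24g -/

set_option autoImplicit false
set_option maxRecDepth 100000
set_option linter.unusedVariables false
set_option exponentiation.threshold 100000

namespace Cfsg.Agent.Spor.FiU

open Cfsg.Agent.Spor

noncomputable def m24g_rels : LT :=
(.node (.node (.node (.node (.node (.node (.node (.leaf [])
 (.leaf [nat_lit 6,nat_lit 7,nat_lit 6,nat_lit 7,nat_lit 6,nat_lit 7])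
) (.leaf [nat_lit 1,nat_lit 10,nat_lit 1,nat_lit 10])
) (.node (.leaf [nat_lit 0,nat_lit 4,nat_lit 0,nat_lit 4])
 (.leaf [nat_lit 3,nat_lit 9,nat_lit 3,nat_lit 9])
)) (.node (.node (.node (.leaf [nat_lit 7,nat_lit 7])
 (.leaf [nat_lit 7,nat_lit 11,nat_lit 7,nat_lit 11])
) (.leaf [nat_lit 2,nat_lit 9,nat_lit 2,nat_lit 9])
) (.node (.leaf [nat_lit 1,nat_lit 2,nat_lit 1,nat_lit 2])
 (.leaf [nat_lit 4,nat_lit 10,nat_lit 4,nat_lit 10])
))) (.node (.node (.node (.node (.leaf [nat_lit 3,nat_lit 3])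
 (.leaf [nat_lit 6,nat_lit 11,nat_lit 6,nat_lit 11])
) (.leaf [nat_lit 2,nat_lit 5,nat_lit 2,nat_lit 5,nat_lit 2,nat_lit 5])
) (.node (.leaf [nat_lit 0,nat_lit 8,nat_lit 0,nat_lit 8])
 (.leaf [nat_lit 4,nat_lit 6,nat_lit 4,nat_lit 6])
)) (.node (.node (.node (.leaf [nat_lit 11,nat_lit 11])
 (.leaf [nat_lit 9,nat_lit 10,nat_lit 9,nat_lit 10])
) (.leaf [nat_lit 3,nat_lit 5,nat_lit 3,nat_lit 5])
) (.node (.leaf [nat_lit 1,nat_lit 6,nat_lit 1,nat_lit 6])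
 (.leaf [nat_lit 5,nat_lit 8,nat_lit 5,nat_lit 8])
)))) (.node (.node (.node (.node (.node (.leaf [nat_lit 1,nat_lit 1])
 (.leaf [nat_lit 6,nat_lit 9,nat_lit 6,nat_lit 9])
) (.leaf [nat_lit 2,nat_lit 3,nat_lit 2,nat_lit 3])
) (.node (.leaf [nat_lit 0,nat_lit 6,nat_lit 0,nat_lit 6])
 (.leaf [nat_lit 3,nat_lit 11,nat_lit 3,nat_lit 11])
)) (.node (.node (.node (.leaf [nat_lit 9,nat_lit 9])
 (.leaf [nat_lit 8,nat_lit 10,nat_lit 8,nat_lit 10])
) (.leaf [nat_lit 2,nat_lit 11,nat_lit 2,nat_lit 11])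
) (.node (.leaf [nat_lit 1,nat_lit 4,nat_lit 1,nat_lit 4,nat_lit 1,nat_lit 4])
 (.leaf [nat_lit 5,nat_lit 6,nat_lit 5,nat_lit 6])
))) (.node (.node (.node (.node (.leaf [nat_lit 5,nat_lit 5])
 (.leaf [nat_lit 7,nat_lit 9,nat_lit 7,nat_lit 9,nat_lit 7,nat_lit 9])
) (.leaf [nat_lit 2,nat_lit 7,nat_lit 2,nat_lit 7])
) (.node (.leaf [nat_lit 0,nat_lit 10,nat_lit 0,nat_lit 10])
 (.leaf [nat_lit 4,nat_lit 8,nat_lit 4,nat_lit 8,nat_lit 4,nat_lit 8])
)) (.node (.node (.node (.leaf [nat_lit 0,nat_lit 2,nat_lit 0,nat_lit 2,nat_lit 0,nat_lit 2])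
 (.leaf [nat_lit 10,nat_lit 11,nat_lit 10,nat_lit 11,nat_lit 10,nat_lit 11])
) (.leaf [nat_lit 3,nat_lit 7,nat_lit 3,nat_lit 7])
) (.node (.leaf [nat_lit 1,nat_lit 8,nat_lit 1,nat_lit 8])
 (.leaf [nat_lit 5,nat_lit 10,nat_lit 5,nat_lit 10])
))))) (.node (.node (.node (.node (.node (.node (.leaf [nat_lit 0,nat_lit 0])
 (.leaf [nat_lit 6,nat_lit 8,nat_lit 6,nat_lit 8])
) (.leaf [nat_lit 1,nat_lit 11,nat_lit 1,nat_lit 11])
) (.node (.leaf [nat_lit 0,nat_lit 5,nat_lit 0,nat_lit 5])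
 (.leaf [nat_lit 3,nat_lit 10,nat_lit 3,nat_lit 10])
)) (.node (.node (.node (.leaf [nat_lit 8,nat_lit 8])
 (.leaf [nat_lit 8,nat_lit 9,nat_lit 8,nat_lit 9])
) (.leaf [nat_lit 2,nat_lit 10,nat_lit 2,nat_lit 10])
) (.node (.leaf [nat_lit 1,nat_lit 3,nat_lit 1,nat_lit 3])
 (.leaf [nat_lit 4,nat_lit 11,nat_lit 4,nat_lit 11])
))) (.node (.node (.node (.node (.leaf [nat_lit 4,nat_lit 4])
 (.leaf [nat_lit 7,nat_lit 8,nat_lit 7,nat_lit 8])
) (.leaf [nat_lit 2,nat_lit 6,nat_lit 2,nat_lit 6])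
) (.node (.leaf [nat_lit 0,nat_lit 9,nat_lit 0,nat_lit 9])
 (.leaf [nat_lit 4,nat_lit 7,nat_lit 4,nat_lit 7])
)) (.node (.node (.node (.leaf [nat_lit 0,nat_lit 1,nat_lit 0,nat_lit 1,nat_lit 0,nat_lit 1])
 (.leaf [nat_lit 9,nat_lit 11,nat_lit 9,nat_lit 11])
) (.leaf [nat_lit 3,nat_lit 6,nat_lit 3,nat_lit 6,nat_lit 3,nat_lit 6])
) (.node (.leaf [nat_lit 1,nat_lit 7,nat_lit 1,nat_lit 7])
 (.leaf [nat_lit 5,nat_lit 9,nat_lit 5,nat_lit 9])
)))) (.node (.node (.node (.node (.node (.leaf [nat_lit 2,nat_lit 2])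
 (.leaf [nat_lit 6,nat_lit 10,nat_lit 6,nat_lit 10])
) (.leaf [nat_lit 2,nat_lit 4,nat_lit 2,nat_lit 4])
) (.node (.leaf [nat_lit 0,nat_lit 7,nat_lit 0,nat_lit 7])
 (.leaf [nat_lit 4,nat_lit 5,nat_lit 4,nat_lit 5])
)) (.node (.node (.node (.leaf [nat_lit 10,nat_lit 10])
 (.leaf [nat_lit 8,nat_lit 11,nat_lit 8,nat_lit 11,nat_lit 8,nat_lit 11])
) (.leaf [nat_lit 3,nat_lit 4,nat_lit 3,nat_lit 4])
) (.node (.leaf [nat_lit 1,nat_lit 5,nat_lit 1,nat_lit 5])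
 (.leaf [nat_lit 5,nat_lit 7,nat_lit 5,nat_lit 7])
))) (.node (.node (.node (.node (.leaf [nat_lit 6,nat_lit 6])
 (.leaf [nat_lit 7,nat_lit 10,nat_lit 7,nat_lit 10])
) (.leaf [nat_lit 2,nat_lit 8,nat_lit 2,nat_lit 8])
) (.node (.leaf [nat_lit 0,nat_lit 11,nat_lit 0,nat_lit 11])
 (.leaf [nat_lit 4,nat_lit 9,nat_lit 4,nat_lit 9])
)) (.node (.node (.leaf [nat_lit 0,nat_lit 3,nat_lit 0,nat_lit 3,nat_lit 0,nat_lit 3])
 (.leaf [nat_lit 3,nat_lit 8,nat_lit 3,nat_lit 8])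
) (.node (.leaf [nat_lit 1,nat_lit 9,nat_lit 1,nat_lit 9])
 (.leaf [nat_lit 5,nat_lit 11,nat_lit 5,nat_lit 11])
))))))
noncomputable def m24g_hws : LT :=
(.node (.node (.leaf [])
 (.leaf [nat_lit 10])
) (.node (.leaf [nat_lit 0,nat_lit 1,nat_lit 4,nat_lit 8,nat_lit 11,nat_lit 10,nat_lit 0,nat_lit 3,nat_lit 6,nat_lit 7,nat_lit 9,nat_lit 0,nat_lit 2,nat_lit 5])
 (.leaf [nat_lit 1])
))
noncomputable def m24g_inv : ℕ → ℕ := getP (nat_lit 8) (nat_lit 255) (nat_lit 0xb0a09080706050403020100)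

noncomputable def m24g_t : BT :=
(.node (.node (.node (.node (.leaf (nat_lit 0x17028000fff000007ff800003ffc00001ffe00000fff00000045090003ffc00001ffe00000fff000007ff8000001ac40001ffe00000fff000007ff800003ffc002a20b468000fff000007ff800584144982a209a34000fff000007ff800000148b8001ffe00000fff000007ff800003ffc00001ffe0000004e2c00000b0b00080546000416ea8002089480010351f0000030300040161c0340250e0007ff8000c40b81803205a080000010000100001))
 (.leaf (nat_lit 0x1ffe00000fff000007ff800003ffc00001ffe00000fff000007ff800003ffc00001ffe00000fff000cc838a00003ffc00001ffe0007b0653a0007ff80000017810001ffe00000fff000007ff80000014008001ffe00000fff000007ff80000011c00001ffe00000fff000007ff800003ffc00001ffe001210771a08483b0c03a41d4581820e8280990731203c839080003ffc00001ffe0002402a06000003830008018200040ba6c00204f2e00102313))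
) (.node (.leaf (nat_lit 0x1ffe00000fff000007ff800003ffc003a212a98000fff000007ff800003ffc00001ffe00093083420007ff800003ffc003020d068000fff000007ff8005ec184d80000d27816b056100007ff800003ffc0020213658000fff000007ff800003ffc00001ffe00000fff00000020800003ffc00001ffe0009109a1a08084c8c03842605817212e280910961200002b990003ffc00001ffe0001c03c040007ff800000014100040080c000fff0000102010))
 (.leaf (nat_lit 0x3a4a1822b2150d6299028681107ac350883c6154258ad0a6138e285f899114318a288a18a699350ab1067683f9564943004285a0fc6842d07c0320a8529412f41e8110ca1982cc2d07d1040a8518e02741e40e2ba13a68c150a410e4686c12052c1e00628a1b40254d0d70009d84e003034288a9a1a158000b509e352aa8620b6514344048ba1a4518fd0c32267e8610001cc0bc2e0ca048150dd07b0582e81485c1340ec2a8da142014b509f040007ff80))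
)) (.node (.node (.leaf (nat_lit 0x1ffe00000fff000f9867a80003ffc0000012424000fff000007ff800003ffc00001ffe00000081100007ff800003ffc00001ffe00000fff000007ff800003ffc000d814030000fff000007ff800003ffc00001ffe00000fff000007ff800003ffc00001ffe0004c0c7220007ff800003ffc00001ffe000000181800100b8d036c2a058162152280020914c001040210003ffc00001ffe00000fff000007ff800003ffc000040a660000fff0000101f0e))
 (.leaf (nat_lit 0x1ffe00000fff000007ff800003ffc00001ffe00000fff000007ff800003ffc00001ffe00000fff000007ff800003ffc00001ffe00000fff000007ff800003ffc00001ffe00000fff000007ff800003ffc00001ffe00000fff000007ff800003ffc00001ffe00000fff000007ff800003ffc00001ffe0012901d1a08880f0c002407c58192040280a1021120408110801a408c38001ffe0000200a0c0288140400e409c1804204c0800901c0200700d80))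
) (.leaf (nat_lit 0x1ffe002090b5460fc858a20003ffc003b2126841cb08f2a0dc8459f00002d948000164a00000944c0007ff80000023120001ffe00000fff000007ff800003ffc00001ffe00000fff000007ff800003ffc00001ffe000000904a08e067290003ffc001481b248000043000007ff800003ffc00001ffe00000fff000007ff80045033540001ffe0000001010001007890003ffc00001ffe00000fff000007ff800003ffc00001ffe00000fff0000102111))
)) (.node (.node (.node (.leaf (nat_lit 0x43217aa8000fff000007ff800003ffc00001ffe0000008e120d885f240003ffc00001ffe00000fff00000037080003ffc00001ffe000000640a0007ff8005c417cb82320b658000fff000007ff800000180d80000b868000fff000007ff800003ffc00001ffe00000fff000007ff800003ffc00001ffe0011902c1a07c81e8c0003ffc00001ffe0000208d4a001036a00003ffc00001ffe000020633a0007ff800003ffc00000006040020020400301580))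
 (.leaf (nat_lit 0x452176300000b4120007ff800003ffc00001ffe00000fff000007ff80000021840001ffe00000fff000007ff800003ffc00001ffe00000fff000007ff800003ffc00001ffe00000fff000007ff800003ffc00001ffe00000fff00000024800003ffc00001ffe0004c0cb520007ff800003ffc00001ffe00000fff0000005e2a0000050500040262c0020b352001042a30003ffc00001ffe00000fff000007ff800003ffc000040c470000fff0000102414))
) (.node (.leaf (nat_lit 0x1ffe00000fff00000058090003ffc00001ffe00000fff000007ff800003ffc00001ffe00000fff000007ff800003ffc000000ce14000fff000007ff800003ffc000000b208000fff000007ff800003ffc0000009804000fff000007ff800003ffc00001ffe0004c0c9500007ff800003ffc00001ffe00016019000007ff800003ffc00001ffe000020af50001042220003ffc00001ffe000020663c0007ff800003ffc000040b06800204b2c00000d0d))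
 (.leaf (nat_lit 0x160028000a091200050289000280c4800140424000a01120005000900024244000120a200009021000048088000240040000c0a140006010a000184820000c201000060a08000303040001810200008200800040a04000203020000848000004200000020e000001060000008200000040c0000020400000d02180006000b0002c245000140e2400090610000401870001c0030000c141400050b08000204030000c1010000402040001000000000000))
)) (.node (.node (.leaf (nat_lit 0x1ffe001ab0d5520007ff8000002b848001ffe00000fff000007ff8006ac21ce0001ffe001a3082300c98379d062c1b0f8001ffe0000007040000044230003ffc00001ffe00000055040007ff800003ffc00001ffe00000fff00072053a30003ffc00001ffe0004c0c84e0007ff800003ffc00001ffe00000fff000007ff800003ffc00001ffe000020ad4e00000707000803440001ffe0003c030100007ff800003ffc000040a86400204a2a00101f8f))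
 (.leaf (nat_lit 0x1ffe00000fff000007ff800003ffc00001ffe00000fff000007ff800003ffc00001ffe00000fff000007ff800003ffc00001ffe00000fff000007ff800003ffc00001ffe00000fff000007ff800003ffc00001ffe00000fff000007ff800003ffc00001ffe00000fff000007ff800003ffc00001ffe001310361a00881a8c03c40d0581a2066280a903212045818880003ffc00001ffe00000009080010040501040e818052072080110380200081b80))
) (.leaf (nat_lit 0x44217290000fff000007ff800003ffc00001ffe00000fff0000005d2a0003ffc00001ffe00000fff000007ff800003ffc00001ffe00000fff000007ff800003ffc00001ffe00000fff000007ff800003ffc00001ffe00000fff0002a069910003ffc0000008a0004c0ca140007ff800003ffc00001ffe00000fff000007ff800003ffc0000002424002011140007ff800003ffc00001ffe00000fff000007ff800003ffc00001ffe00000fff0000102212))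
)))

noncomputable def m24g_rules : LT :=
(.node (.node (.node (.node (.node (.node (.node (.leaf [nat_lit 63,nat_lit 0,nat_lit 1,nat_lit 11,nat_lit 5,nat_lit 11,nat_lit 5])
 (.leaf [nat_lit 36,nat_lit 0,nat_lit 1,nat_lit 12,nat_lit 5,nat_lit 2,nat_lit 5,nat_lit 2,nat_lit 5,nat_lit 2])
) (.leaf [nat_lit 16,nat_lit 0,nat_lit 1,nat_lit 4,nat_lit 0,nat_lit 4,nat_lit 0])
) (.node (.leaf [nat_lit 67,nat_lit 0,nat_lit 1,nat_lit 10,nat_lit 6,nat_lit 10,nat_lit 6])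
 (.leaf [nat_lit 51,nat_lit 1,nat_lit 1,nat_lit 4,nat_lit 5,nat_lit 4,nat_lit 5])
)) (.node (.node (.leaf [nat_lit 57,nat_lit 0,nat_lit 1,nat_lit 11,nat_lit 4,nat_lit 11,nat_lit 4])
 (.leaf [nat_lit 64,nat_lit 0,nat_lit 1,nat_lit 12,nat_lit 7,nat_lit 6,nat_lit 7,nat_lit 6,nat_lit 7,nat_lit 6])
) (.node (.leaf [nat_lit 69,nat_lit 2,nat_lit 1,nat_lit 8,nat_lit 7,nat_lit 8,nat_lit 7])
 (.leaf [nat_lit 13,nat_lit 5,nat_lit 1,nat_lit 12,nat_lit 0,nat_lit 1,nat_lit 0,nat_lit 1,nat_lit 0,nat_lit 1])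
))) (.node (.node (.node (.node (.leaf [nat_lit 32,nat_lit 0,nat_lit 1,nat_lit 10,nat_lit 1,nat_lit 10,nat_lit 1])
 (.leaf [nat_lit 19,nat_lit 2,nat_lit 1,nat_lit 7,nat_lit 0,nat_lit 7,nat_lit 0])
) (.leaf [nat_lit 39,nat_lit 2,nat_lit 1,nat_lit 8,nat_lit 2,nat_lit 8,nat_lit 2])
) (.node (.leaf [nat_lit 71,nat_lit 0,nat_lit 1,nat_lit 10,nat_lit 7,nat_lit 10,nat_lit 7])
 (.leaf [nat_lit 34,nat_lit 2,nat_lit 1,nat_lit 3,nat_lit 2,nat_lit 3,nat_lit 2])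
)) (.node (.node (.leaf [nat_lit 22,nat_lit 0,nat_lit 1,nat_lit 12,nat_lit 10,nat_lit 0,nat_lit 10,nat_lit 0])
 (.leaf [nat_lit 20,nat_lit 1,nat_lit 1,nat_lit 0,nat_lit 8,nat_lit 0,nat_lit 8])
) (.node (.leaf [nat_lit 55,nat_lit 1,nat_lit 1,nat_lit 4,nat_lit 9,nat_lit 4,nat_lit 9])
 (.leaf [nat_lit 38,nat_lit 1,nat_lit 1,nat_lit 12,nat_lit 2,nat_lit 7,nat_lit 2,nat_lit 7])
)))) (.node (.node (.node (.node (.node (.leaf [nat_lit 23,nat_lit 0,nat_lit 1,nat_lit 11,nat_lit 0,nat_lit 11,nat_lit 0])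
 (.leaf [nat_lit 45,nat_lit 0,nat_lit 1,nat_lit 12,nat_lit 6,nat_lit 3,nat_lit 6,nat_lit 3,nat_lit 6,nat_lit 3])
) (.leaf [nat_lit 41,nat_lit 0,nat_lit 1,nat_lit 10,nat_lit 2,nat_lit 10,nat_lit 2])
) (.node (.leaf [nat_lit 35,nat_lit 2,nat_lit 1,nat_lit 4,nat_lit 2,nat_lit 4,nat_lit 2])
 (.leaf [nat_lit 25,nat_lit 2,nat_lit 1,nat_lit 3,nat_lit 1,nat_lit 3,nat_lit 1])
)) (.node (.node (.leaf [nat_lit 74,nat_lit 0,nat_lit 1,nat_lit 10,nat_lit 8,nat_lit 10,nat_lit 8])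
 (.leaf [nat_lit 17,nat_lit 1,nat_lit 1,nat_lit 0,nat_lit 5,nat_lit 0,nat_lit 5])
) (.node (.leaf [nat_lit 72,nat_lit 0,nat_lit 1,nat_lit 11,nat_lit 7,nat_lit 11,nat_lit 7])
 (.leaf [nat_lit 52,nat_lit 1,nat_lit 1,nat_lit 4,nat_lit 6,nat_lit 4,nat_lit 6])
))) (.node (.node (.node (.leaf [nat_lit 16,nat_lit 1,nat_lit 1,nat_lit 0,nat_lit 4,nat_lit 0,nat_lit 4])
 (.leaf [nat_lit 42,nat_lit 0,nat_lit 1,nat_lit 11,nat_lit 2,nat_lit 11,nat_lit 2])
) (.node (.leaf [nat_lit 40,nat_lit 1,nat_lit 1,nat_lit 2,nat_lit 9,nat_lit 2,nat_lit 9])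
 (.leaf [nat_lit 29,nat_lit 1,nat_lit 1,nat_lit 1,nat_lit 7,nat_lit 1,nat_lit 7])
)) (.node (.node (.leaf [nat_lit 20,nat_lit 1,nat_lit 1,nat_lit 12,nat_lit 0,nat_lit 8,nat_lit 0,nat_lit 8])
 (.leaf [nat_lit 30,nat_lit 1,nat_lit 1,nat_lit 1,nat_lit 8,nat_lit 1,nat_lit 8])
) (.node (.leaf [nat_lit 77,nat_lit 0,nat_lit 1,nat_lit 11,nat_lit 9,nat_lit 11,nat_lit 9])
 (.leaf [nat_lit 37,nat_lit 1,nat_lit 1,nat_lit 2,nat_lit 6,nat_lit 2,nat_lit 6])
))))) (.node (.node (.node (.node (.node (.node (.leaf [nat_lit 22,nat_lit 0,nat_lit 1,nat_lit 10,nat_lit 0,nat_lit 10,nat_lit 0])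
 (.leaf [nat_lit 66,nat_lit 1,nat_lit 1,nat_lit 6,nat_lit 9,nat_lit 6,nat_lit 9])
) (.leaf [nat_lit 20,nat_lit 0,nat_lit 1,nat_lit 8,nat_lit 0,nat_lit 8,nat_lit 0])
) (.node (.leaf [nat_lit 50,nat_lit 2,nat_lit 1,nat_lit 11,nat_lit 3,nat_lit 11,nat_lit 3])
 (.leaf [nat_lit 15,nat_lit 4,nat_lit 1,nat_lit 3,nat_lit 0,nat_lit 3,nat_lit 0,nat_lit 3,nat_lit 0])
)) (.node (.node (.leaf [nat_lit 75,nat_lit 5,nat_lit 1,nat_lit 12,nat_lit 8,nat_lit 11,nat_lit 8,nat_lit 11,nat_lit 8,nat_lit 11])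
 (.leaf [nat_lit 60,nat_lit 0,nat_lit 1,nat_lit 12,nat_lit 8,nat_lit 5,nat_lit 8,nat_lit 5])
) (.node (.leaf [nat_lit 76,nat_lit 0,nat_lit 1,nat_lit 10,nat_lit 9,nat_lit 10,nat_lit 9])
 (.leaf [nat_lit 28,nat_lit 2,nat_lit 1,nat_lit 6,nat_lit 1,nat_lit 6,nat_lit 1])
))) (.node (.node (.node (.node (.leaf [nat_lit 33,nat_lit 0,nat_lit 1,nat_lit 11,nat_lit 1,nat_lit 11,nat_lit 1])
 (.leaf [nat_lit 21,nat_lit 2,nat_lit 1,nat_lit 9,nat_lit 0,nat_lit 9,nat_lit 0])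
) (.leaf [nat_lit 62,nat_lit 0,nat_lit 1,nat_lit 10,nat_lit 5,nat_lit 10,nat_lit 5])
) (.node (.leaf [nat_lit 68,nat_lit 0,nat_lit 1,nat_lit 11,nat_lit 6,nat_lit 11,nat_lit 6])
 (.leaf [nat_lit 48,nat_lit 1,nat_lit 1,nat_lit 3,nat_lit 9,nat_lit 3,nat_lit 9])
)) (.node (.node (.leaf [nat_lit 49,nat_lit 0,nat_lit 1,nat_lit 10,nat_lit 3,nat_lit 10,nat_lit 3])
 (.leaf [nat_lit 43,nat_lit 2,nat_lit 1,nat_lit 4,nat_lit 3,nat_lit 4,nat_lit 3])
) (.node (.leaf [nat_lit 73,nat_lit 1,nat_lit 1,nat_lit 8,nat_lit 9,nat_lit 8,nat_lit 9])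
 (.leaf [nat_lit 46,nat_lit 1,nat_lit 1,nat_lit 12,nat_lit 3,nat_lit 7,nat_lit 3,nat_lit 7])
)))) (.node (.node (.node (.node (.node (.leaf [nat_lit 13,nat_lit 1,nat_lit 1,nat_lit 0,nat_lit 1,nat_lit 0,nat_lit 1,nat_lit 0,nat_lit 1])
 (.leaf [nat_lit 31,nat_lit 1,nat_lit 1,nat_lit 1,nat_lit 9,nat_lit 1,nat_lit 9])
) (.leaf [nat_lit 27,nat_lit 1,nat_lit 1,nat_lit 1,nat_lit 5,nat_lit 1,nat_lit 5])
) (.node (.leaf [nat_lit 65,nat_lit 2,nat_lit 1,nat_lit 8,nat_lit 6,nat_lit 8,nat_lit 6])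
 (.leaf [nat_lit 47,nat_lit 0,nat_lit 1,nat_lit 8,nat_lit 3,nat_lit 8,nat_lit 3])
)) (.node (.node (.leaf [nat_lit 78,nat_lit 0,nat_lit 1,nat_lit 12,nat_lit 11,nat_lit 10,nat_lit 11,nat_lit 10,nat_lit 11,nat_lit 10])
 (.leaf [nat_lit 26,nat_lit 5,nat_lit 1,nat_lit 12,nat_lit 1,nat_lit 4,nat_lit 1,nat_lit 4,nat_lit 1,nat_lit 4])
) (.node (.leaf [nat_lit 14,nat_lit 2,nat_lit 1,nat_lit 2,nat_lit 0,nat_lit 2,nat_lit 0,nat_lit 2,nat_lit 0])
 (.leaf [nat_lit 37,nat_lit 2,nat_lit 1,nat_lit 6,nat_lit 2,nat_lit 6,nat_lit 2])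
))) (.node (.node (.node (.leaf [nat_lit 56,nat_lit 0,nat_lit 1,nat_lit 10,nat_lit 4,nat_lit 10,nat_lit 4])
 (.leaf [nat_lit 51,nat_lit 1,nat_lit 1,nat_lit 12,nat_lit 4,nat_lit 5,nat_lit 4,nat_lit 5])
) (.node (.leaf [nat_lit 53,nat_lit 1,nat_lit 1,nat_lit 4,nat_lit 7,nat_lit 4,nat_lit 7])
 (.leaf [nat_lit 18,nat_lit 2,nat_lit 1,nat_lit 6,nat_lit 0,nat_lit 6,nat_lit 0])
)) (.node (.node (.leaf [nat_lit 30,nat_lit 2,nat_lit 1,nat_lit 8,nat_lit 1,nat_lit 8,nat_lit 1])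
 (.leaf [nat_lit 54,nat_lit 3,nat_lit 1,nat_lit 4,nat_lit 8,nat_lit 4,nat_lit 8,nat_lit 4,nat_lit 8])
) (.node (.leaf [nat_lit 24,nat_lit 1,nat_lit 1,nat_lit 1,nat_lit 2,nat_lit 1,nat_lit 2])
 (.leaf [nat_lit 58,nat_lit 2,nat_lit 1,nat_lit 6,nat_lit 5,nat_lit 6,nat_lit 5])
))))))

noncomputable def m24g_subs : LT :=
(.node (.node (.leaf [nat_lit 0,nat_lit 3,nat_lit 0,nat_lit 1])
 (.leaf [nat_lit 13,nat_lit 1,nat_lit 0,nat_lit 5,nat_lit 0,nat_lit 1,nat_lit 4,nat_lit 8,nat_lit 11,nat_lit 10,nat_lit 0,nat_lit 3,nat_lit 6,nat_lit 7,nat_lit 9,nat_lit 0,nat_lit 2])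
) (.leaf [nat_lit 0,nat_lit 2,nat_lit 0,nat_lit 10])
)

noncomputable def m24g : TC :=
  ⟨fun x c => Nat.shiftRight (BT.get m24g_t x) (Nat.mul (nat_lit 33) c),
  (nat_lit 7), (nat_lit 127), (nat_lit 524287), (nat_lit 19), (nat_lit 16383), (nat_lit 524160), (nat_lit 1), (nat_lit 43), (nat_lit 12), (nat_lit 0), (nat_lit 12), (nat_lit 13), m24g_inv, m24g_rules, m24g_subs⟩

theorem m24g_c1 : m24g.rules.all (ruleOK m24g.m m24g.inv m24g_rels) = true := by decide +kernel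
theorem m24g_c2 : m24g.subs.all (subOK m24g.m m24g.inv m24g_hws) = true := by decide +kernel
theorem m24g_c3 : m24g.base = true := by decide +kernel

theorem m24g_s0 : band (m24g.slotsP (nat_lit 0) (nat_lit 43)) (allRange (nat_lit 0) (nat_lit 43) m24g.slotEP) = true := by decide +kernel

theorem m24g_c4 : m24g.UptoP m24g.N := ((TC.uptoP_zero m24g).step _ m24g_s0)
theorem m24g_mem0 {G : Type*} [Group G] {g : ℕ → G} {H : Subgroup G} (hinv : ∀ x < 12, g x * g (m24g_inv x) = 1)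
    (hrels : ∀ i, evalW g (m24g_rels.get i) = 1) (hH : ∀ x < 0, g x ∈ H) (hhws : ∀ i, evalW g (m24g_hws.get i) ∈ H) :
    evalW g [0] ∈ H :=
  TC.mem (T := m24g) hinv hrels hH hhws m24g_c1 m24g_c2 m24g_c3 m24g_c4 (by decide +kernel)
theorem m24g_mem1 {G : Type*} [Group G] {g : ℕ → G} {H : Subgroup G} (hinv : ∀ x < 12, g x * g (m24g_inv x) = 1)
    (hrels : ∀ i, evalW g (m24g_rels.get i) = 1) (hH : ∀ x < 0, g x ∈ H) (hhws : ∀ i, evalW g (m24g_hws.get i) ∈ H) :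
    evalW g [1] ∈ H :=
  TC.mem (T := m24g) hinv hrels hH hhws m24g_c1 m24g_c2 m24g_c3 m24g_c4 (by decide +kernel)
theorem m24g_mem2 {G : Type*} [Group G] {g : ℕ → G} {H : Subgroup G} (hinv : ∀ x < 12, g x * g (m24g_inv x) = 1)
    (hrels : ∀ i, evalW g (m24g_rels.get i) = 1) (hH : ∀ x < 0, g x ∈ H) (hhws : ∀ i, evalW g (m24g_hws.get i) ∈ H) :
    evalW g [2] ∈ H :=
  TC.mem (T := m24g) hinv hrels hH hhws m24g_c1 m24g_c2 m24g_c3 m24g_c4 (by decide +kernel)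
theorem m24g_mem3 {G : Type*} [Group G] {g : ℕ → G} {H : Subgroup G} (hinv : ∀ x < 12, g x * g (m24g_inv x) = 1)
    (hrels : ∀ i, evalW g (m24g_rels.get i) = 1) (hH : ∀ x < 0, g x ∈ H) (hhws : ∀ i, evalW g (m24g_hws.get i) ∈ H) :
    evalW g [3] ∈ H :=
  TC.mem (T := m24g) hinv hrels hH hhws m24g_c1 m24g_c2 m24g_c3 m24g_c4 (by decide +kernel)
theorem m24g_mem4 {G : Type*} [Group G] {g : ℕ → G} {H : Subgroup G} (hinv : ∀ x < 12, g x * g (m24g_inv x) = 1)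
    (hrels : ∀ i, evalW g (m24g_rels.get i) = 1) (hH : ∀ x < 0, g x ∈ H) (hhws : ∀ i, evalW g (m24g_hws.get i) ∈ H) :
    evalW g [4] ∈ H :=
  TC.mem (T := m24g) hinv hrels hH hhws m24g_c1 m24g_c2 m24g_c3 m24g_c4 (by decide +kernel)
theorem m24g_mem5 {G : Type*} [Group G] {g : ℕ → G} {H : Subgroup G} (hinv : ∀ x < 12, g x * g (m24g_inv x) = 1)
    (hrels : ∀ i, evalW g (m24g_rels.get i) = 1) (hH : ∀ x < 0, g x ∈ H) (hhws : ∀ i, evalW g (m24g_hws.get i) ∈ H) :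
    evalW g [5] ∈ H :=
  TC.mem (T := m24g) hinv hrels hH hhws m24g_c1 m24g_c2 m24g_c3 m24g_c4 (by decide +kernel)
theorem m24g_mem6 {G : Type*} [Group G] {g : ℕ → G} {H : Subgroup G} (hinv : ∀ x < 12, g x * g (m24g_inv x) = 1)
    (hrels : ∀ i, evalW g (m24g_rels.get i) = 1) (hH : ∀ x < 0, g x ∈ H) (hhws : ∀ i, evalW g (m24g_hws.get i) ∈ H) :
    evalW g [6] ∈ H :=
  TC.mem (T := m24g) hinv hrels hH hhws m24g_c1 m24g_c2 m24g_c3 m24g_c4 (by decide +kernel)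
theorem m24g_mem7 {G : Type*} [Group G] {g : ℕ → G} {H : Subgroup G} (hinv : ∀ x < 12, g x * g (m24g_inv x) = 1)
    (hrels : ∀ i, evalW g (m24g_rels.get i) = 1) (hH : ∀ x < 0, g x ∈ H) (hhws : ∀ i, evalW g (m24g_hws.get i) ∈ H) :
    evalW g [7] ∈ H :=
  TC.mem (T := m24g) hinv hrels hH hhws m24g_c1 m24g_c2 m24g_c3 m24g_c4 (by decide +kernel)
theorem m24g_mem8 {G : Type*} [Group G] {g : ℕ → G} {H : Subgroup G} (hinv : ∀ x < 12, g x * g (m24g_inv x) = 1)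
    (hrels : ∀ i, evalW g (m24g_rels.get i) = 1) (hH : ∀ x < 0, g x ∈ H) (hhws : ∀ i, evalW g (m24g_hws.get i) ∈ H) :
    evalW g [8] ∈ H :=
  TC.mem (T := m24g) hinv hrels hH hhws m24g_c1 m24g_c2 m24g_c3 m24g_c4 (by decide +kernel)
theorem m24g_mem9 {G : Type*} [Group G] {g : ℕ → G} {H : Subgroup G} (hinv : ∀ x < 12, g x * g (m24g_inv x) = 1)
    (hrels : ∀ i, evalW g (m24g_rels.get i) = 1) (hH : ∀ x < 0, g x ∈ H) (hhws : ∀ i, evalW g (m24g_hws.get i) ∈ H) :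
    evalW g [9] ∈ H :=
  TC.mem (T := m24g) hinv hrels hH hhws m24g_c1 m24g_c2 m24g_c3 m24g_c4 (by decide +kernel)
theorem m24g_mem10 {G : Type*} [Group G] {g : ℕ → G} {H : Subgroup G} (hinv : ∀ x < 12, g x * g (m24g_inv x) = 1)
    (hrels : ∀ i, evalW g (m24g_rels.get i) = 1) (hH : ∀ x < 0, g x ∈ H) (hhws : ∀ i, evalW g (m24g_hws.get i) ∈ H) :
    evalW g [10] ∈ H :=
  TC.mem (T := m24g) hinv hrels hH hhws m24g_c1 m24g_c2 m24g_c3 m24g_c4 (by decide +kernel)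
theorem m24g_mem11 {G : Type*} [Group G] {g : ℕ → G} {H : Subgroup G} (hinv : ∀ x < 12, g x * g (m24g_inv x) = 1)
    (hrels : ∀ i, evalW g (m24g_rels.get i) = 1) (hH : ∀ x < 0, g x ∈ H) (hhws : ∀ i, evalW g (m24g_hws.get i) ∈ H) :
    evalW g [11] ∈ H :=
  TC.mem (T := m24g) hinv hrels hH hhws m24g_c1 m24g_c2 m24g_c3 m24g_c4 (by decide +kernel)

end Cfsg.Agent.Spor.FiU
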