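import Mathlib
import Cfsg.Agent.Spor.Comp.Model

/-! Generated by tools/pg: partial coset enumeration m24o -/

set_option autoImplicit false
set_option maxRecDepth 100000
set_option linter.unusedVariables false
set_option exponentiation.threshold 100000

namespace Cfsg.Agent.Spor.FiU

open Cfsg.Agent.Spor

noncomputable def m24o_rels : LT :=
(.node (.node (.node (.node (.node (.node (.node (.leaf [])
 (.leaf [nat_lit 6,nat_lit 7,nat_lit 6,nat_lit 7,nat_lit 6,nat_lit 7])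
) (.leaf [nat_lit 1,nat_lit 10,nat_lit 1,nat_lit 10])
) (.node (.leaf [nat_lit 0,nat_lit 4,nat_lit 0,nat_lit 4])
 (.leaf [nat_lit 3,nat_lit 9,nat_lit 3,nat_lit 9])
)) (.node (.node (.node (.leaf [nat_lit 7,nat_lit 7])
 (.leaf [nat_lit 7,nat_lit 11,nat_lit 7,nat_lit 11])
) (.leaf [nat_lit 2,nat_lit 9,nat_lit 2,nat_lit 9])
) (.node (.leaf [nat_lit 1,nat_lit 2,nat_lit 1,nat_lit 2])
 (.leaf [nat_lit 4,nat_lit 10,nat_lit 4,nat_lit 10])
))) (.node (.node (.node (.node (.leaf [nat_lit 3,nat_lit 3])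
 (.leaf [nat_lit 6,nat_lit 11,nat_lit 6,nat_lit 11])
) (.leaf [nat_lit 2,nat_lit 5,nat_lit 2,nat_lit 5,nat_lit 2,nat_lit 5])
) (.node (.leaf [nat_lit 0,nat_lit 8,nat_lit 0,nat_lit 8])
 (.leaf [nat_lit 4,nat_lit 6,nat_lit 4,nat_lit 6])
)) (.node (.node (.node (.leaf [nat_lit 11,nat_lit 11])
 (.leaf [nat_lit 9,nat_lit 10,nat_lit 9,nat_lit 10])
) (.leaf [nat_lit 3,nat_lit 5,nat_lit 3,nat_lit 5])
) (.node (.leaf [nat_lit 1,nat_lit 6,nat_lit 1,nat_lit 6])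
 (.leaf [nat_lit 5,nat_lit 8,nat_lit 5,nat_lit 8])
)))) (.node (.node (.node (.node (.node (.leaf [nat_lit 1,nat_lit 1])
 (.leaf [nat_lit 6,nat_lit 9,nat_lit 6,nat_lit 9])
) (.leaf [nat_lit 2,nat_lit 3,nat_lit 2,nat_lit 3])
) (.node (.leaf [nat_lit 0,nat_lit 6,nat_lit 0,nat_lit 6])
 (.leaf [nat_lit 3,nat_lit 11,nat_lit 3,nat_lit 11])
)) (.node (.node (.node (.leaf [nat_lit 9,nat_lit 9])
 (.leaf [nat_lit 8,nat_lit 10,nat_lit 8,nat_lit 10])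
) (.leaf [nat_lit 2,nat_lit 11,nat_lit 2,nat_lit 11])
) (.node (.leaf [nat_lit 1,nat_lit 4,nat_lit 1,nat_lit 4,nat_lit 1,nat_lit 4])
 (.leaf [nat_lit 5,nat_lit 6,nat_lit 5,nat_lit 6])
))) (.node (.node (.node (.node (.leaf [nat_lit 5,nat_lit 5])
 (.leaf [nat_lit 7,nat_lit 9,nat_lit 7,nat_lit 9,nat_lit 7,nat_lit 9])
) (.leaf [nat_lit 2,nat_lit 7,nat_lit 2,nat_lit 7])
) (.node (.leaf [nat_lit 0,nat_lit 10,nat_lit 0,nat_lit 10])
 (.leaf [nat_lit 4,nat_lit 8,nat_lit 4,nat_lit 8,nat_lit 4,nat_lit 8])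
)) (.node (.node (.node (.leaf [nat_lit 0,nat_lit 2,nat_lit 0,nat_lit 2,nat_lit 0,nat_lit 2])
 (.leaf [nat_lit 10,nat_lit 11,nat_lit 10,nat_lit 11,nat_lit 10,nat_lit 11])
) (.leaf [nat_lit 3,nat_lit 7,nat_lit 3,nat_lit 7])
) (.node (.leaf [nat_lit 1,nat_lit 8,nat_lit 1,nat_lit 8])
 (.leaf [nat_lit 5,nat_lit 10,nat_lit 5,nat_lit 10])
))))) (.node (.node (.node (.node (.node (.node (.leaf [nat_lit 0,nat_lit 0])
 (.leaf [nat_lit 6,nat_lit 8,nat_lit 6,nat_lit 8])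
) (.leaf [nat_lit 1,nat_lit 11,nat_lit 1,nat_lit 11])
) (.node (.leaf [nat_lit 0,nat_lit 5,nat_lit 0,nat_lit 5])
 (.leaf [nat_lit 3,nat_lit 10,nat_lit 3,nat_lit 10])
)) (.node (.node (.node (.leaf [nat_lit 8,nat_lit 8])
 (.leaf [nat_lit 8,nat_lit 9,nat_lit 8,nat_lit 9])
) (.leaf [nat_lit 2,nat_lit 10,nat_lit 2,nat_lit 10])
) (.node (.leaf [nat_lit 1,nat_lit 3,nat_lit 1,nat_lit 3])
 (.leaf [nat_lit 4,nat_lit 11,nat_lit 4,nat_lit 11])
))) (.node (.node (.node (.node (.leaf [nat_lit 4,nat_lit 4])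
 (.leaf [nat_lit 7,nat_lit 8,nat_lit 7,nat_lit 8])
) (.leaf [nat_lit 2,nat_lit 6,nat_lit 2,nat_lit 6])
) (.node (.leaf [nat_lit 0,nat_lit 9,nat_lit 0,nat_lit 9])
 (.leaf [nat_lit 4,nat_lit 7,nat_lit 4,nat_lit 7])
)) (.node (.node (.node (.leaf [nat_lit 0,nat_lit 1,nat_lit 0,nat_lit 1,nat_lit 0,nat_lit 1])
 (.leaf [nat_lit 9,nat_lit 11,nat_lit 9,nat_lit 11])
) (.leaf [nat_lit 3,nat_lit 6,nat_lit 3,nat_lit 6,nat_lit 3,nat_lit 6])
) (.node (.leaf [nat_lit 1,nat_lit 7,nat_lit 1,nat_lit 7])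
 (.leaf [nat_lit 5,nat_lit 9,nat_lit 5,nat_lit 9])
)))) (.node (.node (.node (.node (.node (.leaf [nat_lit 2,nat_lit 2])
 (.leaf [nat_lit 6,nat_lit 10,nat_lit 6,nat_lit 10])
) (.leaf [nat_lit 2,nat_lit 4,nat_lit 2,nat_lit 4])
) (.node (.leaf [nat_lit 0,nat_lit 7,nat_lit 0,nat_lit 7])
 (.leaf [nat_lit 4,nat_lit 5,nat_lit 4,nat_lit 5])
)) (.node (.node (.node (.leaf [nat_lit 10,nat_lit 10])
 (.leaf [nat_lit 8,nat_lit 11,nat_lit 8,nat_lit 11,nat_lit 8,nat_lit 11])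
) (.leaf [nat_lit 3,nat_lit 4,nat_lit 3,nat_lit 4])
) (.node (.leaf [nat_lit 1,nat_lit 5,nat_lit 1,nat_lit 5])
 (.leaf [nat_lit 5,nat_lit 7,nat_lit 5,nat_lit 7])
))) (.node (.node (.node (.node (.leaf [nat_lit 6,nat_lit 6])
 (.leaf [nat_lit 7,nat_lit 10,nat_lit 7,nat_lit 10])
) (.leaf [nat_lit 2,nat_lit 8,nat_lit 2,nat_lit 8])
) (.node (.leaf [nat_lit 0,nat_lit 11,nat_lit 0,nat_lit 11])
 (.leaf [nat_lit 4,nat_lit 9,nat_lit 4,nat_lit 9])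
)) (.node (.node (.node (.leaf [nat_lit 0,nat_lit 3,nat_lit 0,nat_lit 3,nat_lit 0,nat_lit 3])
 (.leaf [nat_lit 10,nat_lit 0,nat_lit 2,nat_lit 3,nat_lit 0,nat_lit 1,nat_lit 0,nat_lit 3,nat_lit 2,nat_lit 0,nat_lit 1,nat_lit 8,nat_lit 3,nat_lit 2,nat_lit 6,nat_lit 3,nat_lit 0,nat_lit 2,nat_lit 1,nat_lit 0,nat_lit 3,nat_lit 4,nat_lit 1,nat_lit 0,nat_lit 2,nat_lit 6,nat_lit 3,nat_lit 0,nat_lit 1,nat_lit 4,nat_lit 8,nat_lit 4,nat_lit 1,nat_lit 0,nat_lit 3,nat_lit 6,nat_lit 2,nat_lit 0,nat_lit 1,nat_lit 4,nat_lit 3,nat_lit 0,nat_lit 1,nat_lit 2,nat_lit 0,nat_lit 3,nat_lit 6,nat_lit 4,nat_lit 1,nat_lit 0,nat_lit 2,nat_lit 3,nat_lit 0,nat_lit 1,nat_lit 4,nat_lit 8,nat_lit 4,nat_lit 1,nat_lit 0,nat_lit 3,nat_lit 2,nat_lit 0,nat_lit 1,nat_lit 4])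
) (.leaf [nat_lit 3,nat_lit 8,nat_lit 3,nat_lit 8])
) (.node (.leaf [nat_lit 1,nat_lit 9,nat_lit 1,nat_lit 9])
 (.leaf [nat_lit 5,nat_lit 11,nat_lit 5,nat_lit 11])
))))))
noncomputable def m24o_hws : LT :=
(.leaf [])

noncomputable def m24o_inv : ℕ → ℕ := getP (nat_lit 8) (nat_lit 255) (nat_lit 0xb0a09080706050403020100)

noncomputable def m24o_t : BT :=
(.node (.node (.node (.node (.leaf (nat_lit 0x7ff804a4388a8621bc4a00fff009486a91b8434898001be52000c5200006b138002ec7801ffe00020c424007ff800082e88801ffe0000fff009484e0bc242606a7211e325908a180004e8dce41f04b220f22b2907014007ff800001f458000b81b29057109c82987ca413438040b62329043098482005b840e82801ffe000002c06007ff800080ac2001ffe005901904007ff800c40400802010020700000))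
 (.leaf (nat_lit 0x75142043a0a8001ba48020e92b007ff80404344980019240020dc29007ff803442f4880016e38020c825408590fc842a4780014430020b621007ff8048425c6af212432020a11d408438bde420059520f02a00fff00007ff805e419849a20bc2200fff00007ff802041403a420941a00fff009081f85c040e42801ffe00d102f08007ff802a40981902040067901d04007ff8000003c040401c0400fff00))
) (.node (.leaf (nat_lit 0xd887695003ffc0001ffe00990db28007ff80003ffc0001ffe00c10c622007ff8000031c9001ffe01190b51e588580f803ffc0001ffe01710a019007ff804642586801ffe000008915588430bdc41fc58041103000fff00007ff805c419449820ba22b105a10007ff802c413c3a320921a00fff008c81f05bc40dc2801ffe00c102d085881502a6409c1801ffe000001802007ff8000805c1042018020700400))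
 (.leaf (nat_lit 0x7ff80003ffc0001ffe0000fff00007ff80003ffc0001ffe0000fff00007ff80003ffc0001ffe0000fff00007ff80003ffc0001ffe0000fff00007ff80003ffc0001ffe0000fff00007ff80003ffc0001ffe0000fff00007ff80003ffc0001ffe0000fff00007ff80003ffc0001ffe0000fff00007ff80003ffc0001ffe0000fff00007ff80003ffc0001ffe0000fff00007ff80003ffc0001ffe0000fff00))
)) (.node (.node (.leaf (nat_lit 0x7ff806043909c01ffe0000fff0000072950003348801ffe0000fff00007ff800083309801ffe0000fff00c08568fcc42a078821463a00fff00007ff804c42546ad2122326108b18c08420a5a41f859120ec2a0008517c0835085a41903ea20be220006b13007ff80003ffc026208e1600fff0000024068000d42001ffe00020340a007ff8022408c1801ffe006101a04007ff801040480822014020700200))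
 (.leaf (nat_lit 0x7ff800003849801ffe0000fff000006a11008380a801ffe0000fff00000608f00834c9c01ffe0000fff00000560d0083008c01ffe0000fff000004d8b0082ac7c01ffe0000fff0000041090082686c01ffe000006f0f00034868082045c01ffe00000560b010370a00013028040d02600042080102a8800812c38000640c020410c00014820080c4240003e0402028070000b00808078140402a0600fff00))
) (.leaf (nat_lit 0x7ff8062439ca801ffe0000fff00c486c13be43409801ffe0000fff00007ff803242f088a21703a00fff00c48588fe842a87800172420009f18007ff80684264680011c2a0209e1c007ff800001ec440411a338907210007ff8000018834040f42c00073140002905803ffc00040c22400fff000102887be40e02801ffe00c902e08007ff802840941801ffe007101c04007ff80144050085201a020700500))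
)) (.node (.node (.node (.leaf (nat_lit 0x1c87594b6438ca8001d856000da24007ff803a43389801ffe00020d9286c8610fae42f88801ffe0000fff000006191c442986801ffe0000fff00007ff8000029c7ac21202d9908c186c8418b803ffc00000ea2200fff00007ff8058418c48040e82ad905810007ff803641383a2208c1a00fff008881e85ba40d829b20660eb903008007ff800000881001ffe000202106007ff800e40440812012020700100))
 (.leaf (nat_lit 0x7ff80003ffc0001ffe0000fff00007ff80003ffc0001ffe0000fff00007ff80003ffc0001ffe0000fff00007ff80003ffc0001ffe0000fff00007ff80003ffc0001ffe0000fff00007ff80003ffc0001ffe0000fff00007ff80003ffc0001ffe0000fff00007ff80003ffc0001ffe0000fff00007ff80003ffc0001ffe0000fff00007ff80003ffc0001ffe0000fff00007ff80003ffc0001ffe0000fff00))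
) (.node (.leaf (nat_lit 0x7ff80003ffc0001ffe0000fff00007ff80003ffc0001ffe0000fff00007ff80003ffc0001ffe0000fff00007ff80003ffc0001ffe0000fff00007ff80003ffc0001ffe0000fff00007ff80003ffc0001ffe0000fff00007ff80003ffc0001ffe0000fff00007ff80003ffc0001ffe0000fff00007ff80003ffc0001ffe0000fff00007ff80003ffc0001ffe0000fff00007ff80003ffc0001ffe0000fff00))
 (.leaf (nat_lit 0x784140038289801c104800e012400685110034088801a104000d0020006050f00300078018103800c031c005850d002c0c64016103000b0618005050b00280c580140c2a00a041500485090024184401202220080a0f004050680201834010001a0070a0b0038305801c282800e06140060a0800301840018082000a140c00500060020502001004100061404003040200105008008200400216000000000))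
)) (.node (.node (.leaf (nat_lit 0x7ff80524398a801ffe0000fff00a486b93ea433c98921944200fff00007ff805642fc88001964a000b41ca48570d8002946401ffe00020b320000578f80025058041483c00fff00007ff8000824c69220ee2b4907114a48360750419c4ab20c023490590ca082a078001b44c0008a1400fff000001e040081103401ffe000203b0b007ff802440901801ffe006901b04007ff8012404c0832016020700300))
 (.leaf (nat_lit 0x7ff80003ffc0001ffe0000fff00007ff80003ffc0001ffe0000fff00007ff80003ffc0001ffe0000fff00007ff80003ffc0001ffe0000fff00007ff80003ffc0001ffe0000fff00007ff80003ffc0001ffe0000fff00007ff80003ffc0001ffe0000fff00007ff80003ffc0001ffe0000fff00007ff80003ffc0001ffe0000fff00007ff80003ffc0001ffe0000fff00007ff80003ffc000000e000200601))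
) (.leaf (nat_lit 0x7ff80003ffc0001ffe0000fff00007ff80003ffc0001ffe0000fff00007ff80003ffc0001ffe0000fff00007ff80003ffc0001ffe0000fff00007ff80003ffc0001ffe0000fff00007ff80003ffc0001ffe0000fff00007ff80003ffc0001ffe0000fff00007ff80003ffc0001ffe0000fff00007ff80003ffc0001ffe0000fff00007ff80003ffc0001ffe0000fff00007ff80003ffc0001ffe0000fff00))
)))

noncomputable def m24o_rules : LT :=
(.node (.node (.node (.node (.node (.node (.leaf [nat_lit 23,nat_lit 1,nat_lit 1,nat_lit 0,nat_lit 11,nat_lit 0,nat_lit 11])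
 (.leaf [nat_lit 39,nat_lit 2,nat_lit 1,nat_lit 8,nat_lit 2,nat_lit 8,nat_lit 2])
) (.node (.leaf [nat_lit 74,nat_lit 1,nat_lit 1,nat_lit 8,nat_lit 10,nat_lit 8,nat_lit 10])
 (.leaf [nat_lit 41,nat_lit 1,nat_lit 1,nat_lit 2,nat_lit 10,nat_lit 2,nat_lit 10])
)) (.node (.node (.leaf [nat_lit 39,nat_lit 1,nat_lit 1,nat_lit 2,nat_lit 8,nat_lit 2,nat_lit 8])
 (.leaf [nat_lit 45,nat_lit 3,nat_lit 1,nat_lit 3,nat_lit 6,nat_lit 3,nat_lit 6,nat_lit 3,nat_lit 6])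
) (.leaf [nat_lit 16,nat_lit 2,nat_lit 1,nat_lit 4,nat_lit 0,nat_lit 4,nat_lit 0])
)) (.node (.node (.node (.leaf [nat_lit 57,nat_lit 1,nat_lit 1,nat_lit 4,nat_lit 11,nat_lit 4,nat_lit 11])
 (.leaf [nat_lit 47,nat_lit 2,nat_lit 1,nat_lit 8,nat_lit 3,nat_lit 8,nat_lit 3])
) (.node (.leaf [nat_lit 28,nat_lit 2,nat_lit 1,nat_lit 6,nat_lit 1,nat_lit 6,nat_lit 1])
 (.leaf [nat_lit 45,nat_lit 4,nat_lit 1,nat_lit 6,nat_lit 3,nat_lit 6,nat_lit 3,nat_lit 6,nat_lit 3])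
)) (.node (.node (.leaf [nat_lit 35,nat_lit 1,nat_lit 1,nat_lit 2,nat_lit 4,nat_lit 2,nat_lit 4])
 (.leaf [nat_lit 28,nat_lit 1,nat_lit 1,nat_lit 1,nat_lit 6,nat_lit 1,nat_lit 6])
) (.leaf [nat_lit 14,nat_lit 3,nat_lit 1,nat_lit 0,nat_lit 2,nat_lit 0,nat_lit 2,nat_lit 0,nat_lit 2])
))) (.node (.node (.node (.node (.leaf [nat_lit 42,nat_lit 1,nat_lit 1,nat_lit 2,nat_lit 11,nat_lit 2,nat_lit 11])
 (.leaf [nat_lit 25,nat_lit 1,nat_lit 1,nat_lit 1,nat_lit 3,nat_lit 1,nat_lit 3])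
) (.node (.leaf [nat_lit 25,nat_lit 2,nat_lit 1,nat_lit 3,nat_lit 1,nat_lit 3,nat_lit 1])
 (.leaf [nat_lit 13,nat_lit 3,nat_lit 1,nat_lit 0,nat_lit 1,nat_lit 0,nat_lit 1,nat_lit 0,nat_lit 1])
)) (.node (.node (.leaf [nat_lit 65,nat_lit 1,nat_lit 1,nat_lit 6,nat_lit 8,nat_lit 6,nat_lit 8])
 (.leaf [nat_lit 14,nat_lit 4,nat_lit 1,nat_lit 2,nat_lit 0,nat_lit 2,nat_lit 0,nat_lit 2,nat_lit 0])
) (.leaf [nat_lit 20,nat_lit 2,nat_lit 1,nat_lit 8,nat_lit 0,nat_lit 8,nat_lit 0])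
)) (.node (.node (.node (.leaf [nat_lit 20,nat_lit 1,nat_lit 1,nat_lit 0,nat_lit 8,nat_lit 0,nat_lit 8])
 (.leaf [nat_lit 34,nat_lit 1,nat_lit 1,nat_lit 2,nat_lit 3,nat_lit 2,nat_lit 3])
) (.node (.leaf [nat_lit 56,nat_lit 1,nat_lit 1,nat_lit 4,nat_lit 10,nat_lit 4,nat_lit 10])
 (.leaf [nat_lit 79,nat_lit 32,nat_lit 1,nat_lit 4,nat_lit 8,nat_lit 4,nat_lit 1,nat_lit 0,nat_lit 3,nat_lit 6,nat_lit 2,nat_lit 0,nat_lit 1,nat_lit 4,nat_lit 3,nat_lit 0,nat_lit 1,nat_lit 2,nat_lit 0,nat_lit 3,nat_lit 6,nat_lit 2,nat_lit 3,nat_lit 8,nat_lit 1,nat_lit 0,nat_lit 2,nat_lit 3,nat_lit 0,nat_lit 1,nat_lit 0,nat_lit 3,nat_lit 2,nat_lit 0,nat_lit 10,nat_lit 4,nat_lit 1,nat_lit 0,nat_lit 2,nat_lit 3,nat_lit 0,nat_lit 1,nat_lit 4,nat_lit 8,nat_lit 4,nat_lit 1,nat_lit 0,nat_lit 3,nat_lit 2,nat_lit 0,nat_lit 1,nat_lit 4,nat_lit 6,nat_lit 3,nat_lit 0,nat_lit 2,nat_lit 1,nat_lit 0,nat_lit 3,nat_lit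 4,nat_lit 1,nat_lit 0,nat_lit 2,nat_lit 6,nat_lit 3,nat_lit 0,nat_lit 1])
)) (.node (.node (.leaf [nat_lit 52,nat_lit 2,nat_lit 1,nat_lit 6,nat_lit 4,nat_lit 6,nat_lit 4])
 (.leaf [nat_lit 52,nat_lit 1,nat_lit 1,nat_lit 4,nat_lit 6,nat_lit 4,nat_lit 6])
) (.leaf [nat_lit 35,nat_lit 2,nat_lit 1,nat_lit 4,nat_lit 2,nat_lit 4,nat_lit 2])
)))) (.node (.node (.node (.node (.node (.leaf [nat_lit 33,nat_lit 1,nat_lit 1,nat_lit 1,nat_lit 11,nat_lit 1,nat_lit 11])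
 (.leaf [nat_lit 15,nat_lit 3,nat_lit 1,nat_lit 0,nat_lit 3,nat_lit 0,nat_lit 3,nat_lit 0,nat_lit 3])
) (.node (.leaf [nat_lit 24,nat_lit 2,nat_lit 1,nat_lit 2,nat_lit 1,nat_lit 2,nat_lit 1])
 (.leaf [nat_lit 67,nat_lit 1,nat_lit 1,nat_lit 6,nat_lit 10,nat_lit 6,nat_lit 10])
)) (.node (.node (.leaf [nat_lit 47,nat_lit 1,nat_lit 1,nat_lit 3,nat_lit 8,nat_lit 3,nat_lit 8])
 (.leaf [nat_lit 49,nat_lit 1,nat_lit 1,nat_lit 3,nat_lit 10,nat_lit 3,nat_lit 10])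
) (.leaf [nat_lit 18,nat_lit 2,nat_lit 1,nat_lit 6,nat_lit 0,nat_lit 6,nat_lit 0])
)) (.node (.node (.node (.leaf [nat_lit 68,nat_lit 1,nat_lit 1,nat_lit 6,nat_lit 11,nat_lit 6,nat_lit 11])
 (.leaf [nat_lit 22,nat_lit 1,nat_lit 1,nat_lit 0,nat_lit 10,nat_lit 0,nat_lit 10])
) (.node (.leaf [nat_lit 30,nat_lit 2,nat_lit 1,nat_lit 8,nat_lit 1,nat_lit 8,nat_lit 1])
 (.leaf [nat_lit 34,nat_lit 2,nat_lit 1,nat_lit 3,nat_lit 2,nat_lit 3,nat_lit 2])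
)) (.node (.node (.leaf [nat_lit 43,nat_lit 1,nat_lit 1,nat_lit 3,nat_lit 4,nat_lit 3,nat_lit 4])
 (.leaf [nat_lit 37,nat_lit 1,nat_lit 1,nat_lit 2,nat_lit 6,nat_lit 2,nat_lit 6])
) (.leaf [nat_lit 24,nat_lit 1,nat_lit 1,nat_lit 1,nat_lit 2,nat_lit 1,nat_lit 2])
))) (.node (.node (.node (.node (.leaf [nat_lit 50,nat_lit 1,nat_lit 1,nat_lit 3,nat_lit 11,nat_lit 3,nat_lit 11])
 (.leaf [nat_lit 43,nat_lit 2,nat_lit 1,nat_lit 4,nat_lit 3,nat_lit 4,nat_lit 3])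
) (.node (.leaf [nat_lit 26,nat_lit 4,nat_lit 1,nat_lit 4,nat_lit 1,nat_lit 4,nat_lit 1,nat_lit 4,nat_lit 1])
 (.leaf [nat_lit 26,nat_lit 3,nat_lit 1,nat_lit 1,nat_lit 4,nat_lit 1,nat_lit 4,nat_lit 1,nat_lit 4])
)) (.node (.node (.leaf [nat_lit 16,nat_lit 1,nat_lit 1,nat_lit 0,nat_lit 4,nat_lit 0,nat_lit 4])
 (.leaf [nat_lit 15,nat_lit 4,nat_lit 1,nat_lit 3,nat_lit 0,nat_lit 3,nat_lit 0,nat_lit 3,nat_lit 0])
) (.leaf [nat_lit 32,nat_lit 1,nat_lit 1,nat_lit 1,nat_lit 10,nat_lit 1,nat_lit 10])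
)) (.node (.node (.node (.leaf [nat_lit 30,nat_lit 1,nat_lit 1,nat_lit 1,nat_lit 8,nat_lit 1,nat_lit 8])
 (.leaf [nat_lit 18,nat_lit 1,nat_lit 1,nat_lit 0,nat_lit 6,nat_lit 0,nat_lit 6])
) (.leaf [nat_lit 13,nat_lit 4,nat_lit 1,nat_lit 1,nat_lit 0,nat_lit 1,nat_lit 0,nat_lit 1,nat_lit 0])
) (.node (.node (.leaf [nat_lit 54,nat_lit 4,nat_lit 1,nat_lit 8,nat_lit 4,nat_lit 8,nat_lit 4,nat_lit 8,nat_lit 4])
 (.leaf [nat_lit 65,nat_lit 2,nat_lit 1,nat_lit 8,nat_lit 6,nat_lit 8,nat_lit 6])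
) (.leaf [nat_lit 37,nat_lit 2,nat_lit 1,nat_lit 6,nat_lit 2,nat_lit 6,nat_lit 2])
)))))

noncomputable def m24o_subs : LT :=
(.leaf [nat_lit 0,nat_lit 0,nat_lit 0,nat_lit 12])


noncomputable def m24o : TC :=
  ⟨fun x c => Nat.shiftRight (BT.get m24o_t x) (Nat.mul (nat_lit 29) c),
  (nat_lit 8), (nat_lit 255), (nat_lit 0xfffff), (nat_lit 20), (nat_lit 511), (nat_lit 0xfff00), (nat_lit 1), (nat_lit 44), (nat_lit 12), (nat_lit 11), (nat_lit 12), (nat_lit 13), m24o_inv, m24o_rules, m24o_subs⟩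

theorem m24o_c1 : m24o.rules.all (ruleOK m24o.m m24o.inv m24o_rels) = true := by decide +kernel
theorem m24o_c2 : m24o.subs.all (subOK m24o.m m24o.inv m24o_hws) = true := by decide +kernel
theorem m24o_c3 : m24o.base = true := by decide +kernel

theorem m24o_s0 : band (m24o.slotsP (nat_lit 0) (nat_lit 44)) (allRange (nat_lit 0) (nat_lit 44) m24o.slotEP) = true := by decide +kernel

theorem m24o_c4 : m24o.UptoP m24o.N := ((TC.uptoP_zero m24o).step _ m24o_s0)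
theorem m24o_mem0 {G : Type*} [Group G] {g : ℕ → G} {H : Subgroup G} (hinv : ∀ x < 12, g x * g (m24o_inv x) = 1)
    (hrels : ∀ i, evalW g (m24o_rels.get i) = 1) (hH : ∀ x < 11, g x ∈ H) (hhws : ∀ i, evalW g (m24o_hws.get i) ∈ H) :
    evalW g [11, 10, 10, 2, 6, 3, 0, 1, 4, 8, 2, 6, 3, 0, 1, 4, 8, 2, 6, 3, 0, 1, 4, 8, 2, 6, 3, 0, 1, 4, 8, 2, 6, 3, 0, 1, 4, 8, 2, 6, 3, 0, 1, 4, 8, 2, 6, 3, 0, 1, 4, 8, 2, 6, 3, 0, 1, 4, 8, 2, 6, 3, 0, 1, 4, 8, 10, 11] ∈ H :=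
  TC.mem (T := m24o) hinv hrels hH hhws m24o_c1 m24o_c2 m24o_c3 m24o_c4 (by decide +kernel)

end Cfsg.Agent.Spor.FiU
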